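import Cfsg.Agent.INV.B2.EndSm1
import Cfsg.Agent.FGS.CITMain
import Cfsg.Agent.FGS.CITStruct

/-!
# The end of the case `q = 2`
-/

set_option autoImplicit false
set_option linter.unusedSectionVars false
open Cfsg Subgroup CL.Th CL.MSS CL.Push CL.BHS
open scoped commutatorElement MatrixGroups

namespace CL.B2
variable {G : Type*} [Group G] [Finite G] {D : Set G} {t w : G}

/-- `CL.CIT.simple`; `L₂(2)`, `L₂(3)` are solvable. -/
theorem lst_of_cit [IsSimpleGroup G] (hG : ¬ IsMulCommutative G)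
    (hC : ∀ t : G, orderOf t = 2 → IsPGroup 2 (𝐜 t)) : Lst G := by
  rcases CL.CIT.simple hG hC with ⟨F, _, _, hF, ⟨e⟩⟩ | ⟨F, _, _, hF, e⟩ | e
  · have h4 := CL.CITC.four_le_card (F := F) fun _ => CL.PSL2E.not_solvable_of_simple hG
      (Group.isSolvable_of_isSolvable_injective (f := e.toMonoidHom) e.injective)
    rcases hF with hF | ⟨n, h1, h2⟩ | ⟨-, k, hk⟩
    · exact .inr (.inr (.inr ⟨F, _, _, 3, h4, .inl hF, ⟨e⟩⟩))
    · exact .inl ⟨F, _, _, n, h1, h2, .inl ⟨e⟩⟩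
    · exact .inr (.inr (.inr ⟨F, _, _, k, h4, hk, ⟨e⟩⟩))
  · exact .inl ⟨F, _, _, 2, le_rfl, hF, .inr (.inl e)⟩
  · exact .inr (.inl e)

/-- An element of odd order normalizing `Θ` centralizes it. -/
theorem Dih.odd_cent {Θ : Set G} {ζ : G → G} {ρ e : G} {m : ℕ} (d : Dih Θ ζ w ρ m)
    (he : Odd (orderOf e)) (hn : ∀ k : ℤ, ∃ l : ℤ, e * (w * ρ ^ k) * e⁻¹ = w * ρ ^ l) (k : ℤ) :
    e ∈ 𝐜 (w * ρ ^ k) := by
  obtain ⟨i, hi⟩ := hn 0
  obtain ⟨j, hj⟩ := hn 1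
  rw [zpow_zero, mul_one] at hi
  have n : e ∈ 𝐍 (zpowers ρ) := mem_normalizer_of_cj_le (by
    rw [cj_zpowers, show e * ρ * e⁻¹ = (e * w * e⁻¹)⁻¹ * (e * (w * ρ ^ (1 : ℤ)) * e⁻¹) by group, hi, hj]
    exact zpowers_le.2 ⟨j - i, by group⟩)
  have c : e ∈ 𝐂 (zpowers ρ) := mem_of_odd he (k := m + 1) (by
    have : (⟨e, n⟩ : 𝐍 (zpowers ρ)) ^ 2 ^ (m + 1) ∈ (zpowers ρ).normalizerMonoidHom.ker := by
      rw [MonoidHom.mem_ker, map_pow, ← pow_card_eq_one' (x := (zpowers ρ).normalizerMonoidHom ⟨e, n⟩),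
        IsCyclic.card_mulAut, Nat.card_zpowers, d.ord, Nat.totient_prime_pow_succ Nat.prime_two]
      simp
    rw [normalizerMonoidHom_ker] at this
    exact this)
  have c' : ∀ l : ℤ, e * ρ ^ l * e⁻¹ = ρ ^ l := fun l => by
    rw [← c _ (zpow_mem (mem_zpowers ρ) l), mul_inv_cancel_right]
  have p : ∀ a : ℕ, e ^ a * w * (e ^ a)⁻¹ = w * (ρ ^ i) ^ a := fun a => by
    induction a with
    | zero => simp
    | succ a ih =>
      rw [show e ^ (a + 1) * w * (e ^ (a + 1))⁻¹ = e * (e ^ a * w * (e ^ a)⁻¹) * e⁻¹ by group, ih,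
        show e * (w * (ρ ^ i) ^ a) * e⁻¹ = e * w * e⁻¹ * (e * ρ ^ (i * a) * e⁻¹) by group, hi, c']
      group
  have q : e ∈ 𝐜 w := mem_of_odd he (k := m + 2) (mem_c.2 (by
    rw [← mul_inv_eq_iff_eq_mul, p, ← d.ord, ← zpow_natCast, ← zpow_mul, mul_comm i, zpow_mul,
      zpow_natCast, pow_orderOf_eq_one, one_zpow, mul_one]))
  rw [mem_c, ← mul_assoc, mem_c.1 q, mul_assoc, mul_assoc, c _ (zpow_mem (mem_zpowers ρ) k)]

/-- `S = Sy t`, `Θ = Th D t`, `ζ`, `C` from `exists_smT`; `ζ y = t` for all `y ∈ Θ`, `Θ ⊆ D`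
(`exists_cj_Z`), `Y = ⟨Θ⟩ = ⟨w, ρ⟩` (`dih`), `y = w ρ`, `ρ₄ = ρ ^ 2 ^ m`, `K_v`, `E_v` belong to
`v ∈ Θ`.  Every `v ∈ Θ` is `Y`-conjugate to `w` or `y`, and `G = ⟨E_v⟩`.
(1) `C(t) = S`.  An element `e ∈ C(t)` of odd order permutes `Θ` (`Sm.cj`), centralizes `ρ` and `w`;
`Sm.cc` with `W₁ = 1` gives `e ∈ C(E_v)` for all `v`, so `e = 1`.
(2) `C₀ = C_S(Y)`; `C₀ ⊓ C w ⊓ C y = 1`.  So `1 ≠ c ∈ C₀ ⊓ C w` has `t c ∈ C y` (`cent_X`), and `c`,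
`t c ∉ D` (`ncl_D`); the same with `w`, `y` interchanged; `|C₀ ⊓ C y| ≤ 2`.
Call `s ∈ S` *outer* if `s w s⁻¹ = w ρ ^ k` with `k` odd; the other elements form the subgroup
`S₀ = Y C_S(w)` of index `≤ 2`.  An involution `s ∈ S₀` lies in `C₀` (`cent_Y`) or inverts `ρ₄` and
centralizes some `v ∈ Θ`, `s = v' c` with `v' ∈ {v, v t}`, `c ∈ C v ⊓ C₀`; then `s` is conjugate under
`E_v` to `t c`.  So `D ∩ S₀ = Θ ∪ {t}`.
(3) Suppose `u ∈ D ∩ S` is outer; `u` inverts `w u`, `ρ`.  If `1 ≠ c ∈ C₀ ⊓ C w` then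
`u c u⁻¹ ∈ C₀ ⊓ C y` is `t c`, `x = ρ₄ c` commutes with `u = g t g⁻¹`, `x² = t`; so
`g⁻¹ t g ∈ D ∩ S` is a square in `S`, so it is not outer, not in `Θ` (`sq_mem`, `disj`), and not `t`.
So `C₀ ⊓ C w = 1`, `C w` has no involution, `C w = 1`, `S₀ = Y`, `S = ⟨w, u⟩`, and the outer
involutions `ρ ^ j u` are conjugate to `u` under `⟨w u⟩`.
(4) Suppose `D ∩ S = Θ ∪ {t}`.  Let `φ : S → S / Y S'`.  For `s = g t g⁻¹` and `x ∈ Sy s` put
`φ_s(x) = φ(g⁻¹ x g)` (independent of `g` by (1)).  If `s, s' ∈ D` commute and `x ∈ Sy s ⊓ Sy s'` then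
`φ_s(x) = φ_{s'}(x)`: let `s = t`, `s' = v = e t e⁻¹`, `e ∈ E_v`; `x ∈ ⟨v, t⟩ C v`, so
`e⁻¹ x e ∈ x ⟨v, t⟩`.  If `x, g⁻¹ x g ∈ S`, `s = g t g⁻¹`: take a Sylow 2-subgroup `T ∋ x, t` of
`C(x)`, `c ∈ C(x)` with `s' = c s c⁻¹ ∈ T`, `T ≤ Sy w₀`; `φ(x) = φ_{w₀}(x) = φ_{s'}(x) = φ(g⁻¹ x g)`.
The transfer `G → S / Y S'` (`MonoidHom.transfer_eq_pow`) is trivial, so `S = Y S'`, `S = Y`.
In both cases all involutions of `S` lie in `D`; `lst_of_cit`. -/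
theorem endSm [IsSimpleGroup G] (hG : ¬ IsMulCommutative G) (h : Hy D) (ht : t ∈ D)
    (hw : w ∈ Th D t) (hall : ∀ P P' B, At D t P P' B → qo P B = 2 ∧ Zo P B = zpowers t)
    (hN : Nt D t = ⊤) : Concl D := by
  obtain ⟨ζ, C, T⟩ := exists_smT h ht
  have zt : ∀ v ∈ Th D t, ζ v = t := fun v hv => by
    obtain ⟨P, P', B, m⟩ := S3.sm_of hv
    exact (LB.zp (h.sq ht) (((T.eq v _ _ _ m).1.symm.trans (hall _ _ _ m.toAt).2).le
      (mem_zpowers _))).resolve_left (S3.ne_of (T.th.ztwo v hv))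
  have fr : ∀ {v P P' B}, Sm D t v P P' B → ∃ a e, Fr D t v P P' B t a e := fun m => by
    obtain ⟨z, a, e, f⟩ := m.frame h
    obtain rfl := (LB.zp (h.sq ht) ((f.Z.symm.trans (hall _ _ _ m.toAt).2).le
      (mem_zpowers _))).resolve_left (S3.ne_of f.two)
    exact ⟨a, e, f⟩
  have cen : ∀ c, (∀ v P P' B, Sm D t v P P' B → c ∈ 𝐂 (oU[2] P)) → c = 1 := fun c hc => by
    have : Nt D t ≤ 𝐜 c := sSup_le (by
      rintro _ ⟨P, P', B, p, rfl⟩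
      obtain ⟨v, v1, v2⟩ := SetLike.not_le_iff_exists.1 p.l.W_not_le_Z
      exact le_c_iff.2 (hc v P P' B ⟨p, (hall _ _ _ p).1, v1, v2⟩))
    refine ((IsSimpleGroup.eq_bot_or_eq_top_of_normal (center G) inferInstance).resolve_right
      fun e => hG ⟨⟨fun a b => mem_center_iff.1 (e.ge (mem_top b)) a⟩⟩).le
      (mem_center_iff.2 fun g => mem_c.1 (this (hN.ge (mem_top g))))
  obtain ⟨ρ, n, d⟩ := T.th.dih hw
  have th : ∀ v, v ∈ Th D t ↔ ∃ k : ℤ, v = w * ρ ^ k := fun v =>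
    ⟨fun hv => (d.mem v).1 ⟨hv, (zt v hv).trans (zt w hw).symm⟩, fun hv => ((d.mem v).2 hv).1⟩
  have cS : IsPGroup 2 (𝐜 t) := by
    refine isPGroup_iff_forall_mem.2 fun x hx => ?_
    obtain ⟨k, j, hj, e⟩ := Nat.exists_eq_two_pow_mul_odd (orderOf_pos x).ne'
    refine ⟨k, cen _ fun v P P' B m => ?_⟩
    have ho : Odd (orderOf (x ^ 2 ^ k)) :=
      hj.of_dvd_nat (orderOf_dvd_of_pow_eq_one (by rw [← pow_mul, ← e, pow_orderOf_eq_one]))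
    have hc := mem_c.1 (pow_mem hx (2 ^ k))
    generalize x ^ 2 ^ k = e at ho hc
    have k : Yz (Th D t) ζ (ζ v) ≤ 𝐜 e := (closure_le _).2 fun y hy => by
      obtain ⟨i, rfl⟩ := (th y).1 hy.1
      refine mem_c.2 (mem_c.1 (d.odd_cent ho (fun i => (th _).1 ?_) i)).symm
      obtain ⟨P, P', B, m⟩ := S3.sm_of ((th _).2 ⟨i, rfl⟩)
      have := (m.cj h e).mem_Th h
      rwa [hc, mul_inv_cancel_right] at this
    exact m.cc h ho (le_c_iff.1 ((S3.W_le h T m).trans k)) (le_c_iff.1 ((S3.W'_le h T m).trans k))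
      (W₁ := ⊥) bot_le (mem_normalizer_iff_cj.2 (cj_bot e))
      (commutatorElement_eq_one_iff_mul_comm.2 hc.symm)
  have E : EH D t (Th D t) ζ C := by
    refine ⟨h, ht, T.th, zt, fun v hv => ?_, fun v hv c hc hD => ?_, fun c hc => ?_,
      h.le_Sy ht cS le_rfl⟩
    · obtain ⟨P, P', B, m⟩ := S3.sm_of hv
      obtain ⟨a, e, f⟩ := fr m
      exact ⟨e, f.ez, f.ew, fun c hc =>
        mem_c.2 (cK_E _ _ ((T.eq v _ _ _ m).2.le hc).2 e f.mem).symm⟩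
    · obtain ⟨P, P', B, m⟩ := S3.sm_of hv
      obtain ⟨a, e, f⟩ := fr m
      have k := ((T.eq v _ _ _ m).2.le hc).2
      exact m.l.ncl_D h hD (cK_E _ _ k) (m.r.W_le f.pa.memW) (m.nQ f.pa) (cK_W' _ _ k a f.pa.memW)
    · exact cen c fun v P P' B m => cK_E _ _ ((T.eq v _ _ _ m).2.le (hc v (m.mem_Th h))).2
  have all : ∀ s : G, orderOf s = 2 → s ∈ D := fun s => E.allD hw
    ((IsSimpleGroup.eq_bot_or_eq_top_of_normal _ inferInstance).resolve_left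
      fun e => hG ((commutator_eq_bot_iff G).1 e))
  refine ⟨lst_of_cit hG fun s hs => ?_, fun s hs _ => all s hs⟩
  obtain ⟨g, rfl⟩ := h.cls t ht s (all s hs)
  exact cj_centralizer_singleton g t ▸ isPGroup_cj g cS

end CL.B2
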